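import Mathlib
import Groth.Prelude.Def_W4c3perfectstacksMV
import Groth.Prelude.Def_CohDer
import Groth.Agent.CompGen.Coprod

/-! Mayer–Vietoris squares of triangulated categories. -/

set_option backward.isDefEq.respectTransparency false
set_option linter.unusedSectionVars false

universe v u

open CategoryTheory CategoryTheory.Limits CategoryTheory.Pretriangulated ZeroObject
open W4c3perfectstacks

namespace Groth.Agent.H7.MV

variable {S S' R R' : Type u} [Category.{v} S] [Category.{v} S'] [Category.{v} R] [Category.{v} R']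
    [Preadditive S] [Preadditive S'] [Preadditive R] [Preadditive R']
    [HasZeroObject S] [HasZeroObject S'] [HasZeroObject R] [HasZeroObject R']
    [HasShift S ℤ] [HasShift S' ℤ] [HasShift R ℤ] [HasShift R' ℤ]
    [∀ n : ℤ, (shiftFunctor S n).Additive] [∀ n : ℤ, (shiftFunctor S' n).Additive]
    [∀ n : ℤ, (shiftFunctor R n).Additive] [∀ n : ℤ, (shiftFunctor R' n).Additive]
    [Pretriangulated S] [Pretriangulated S'] [Pretriangulated R] [Pretriangulated R']
    (q : MVSq S S' R R')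
    [q.jst.CommShift ℤ] [q.fst.CommShift ℤ] [q.jpst.CommShift ℤ] [q.gst.CommShift ℤ]
    [q.jst.IsTriangulated] [q.fst.IsTriangulated] [q.jpst.IsTriangulated] [q.gst.IsTriangulated]

/-- killed by the restriction to `U` -/
def Killed (A : S) : Prop := IsZero (q.jst.obj A)

/-- receives no morphism from killed objects -/
def Orth (Y : S) : Prop := ∀ (A : S), Killed q A → ∀ h : A ⟶ Y, h = 0

/-- after pullback to `X'`, receives no morphism from killed objects -/
def OrthF (Y : S) : Prop := ∀ (A : S), Killed q A → ∀ h : q.fst.obj A ⟶ q.fst.obj Y, h = 0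

variable {q}

lemma Killed.shift {A : S} (h : Killed q A) (n : ℤ) : Killed q ((shiftFunctor S n).obj A) :=
  ((shiftFunctor R n).map_isZero h).of_iso ((q.jst.commShiftIso n).app A)

lemma Orth.shift {Y : S} (h : Orth q Y) (n : ℤ) : Orth q ((shiftFunctor S n).obj Y) := by
  intro A hA f
  apply (shiftFunctor S (-n)).map_injective
  rw [Functor.map_zero, ← cancel_mono ((shiftFunctorCompIsoId S n (-n) (by omega)).hom.app Y), zero_comp]
  exact h _ (hA.shift (-n)) _

lemma OrthF.shift {Y : S} (h : OrthF q Y) (n : ℤ) : OrthF q ((shiftFunctor S n).obj Y) := by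
  intro A hA f
  rw [← cancel_mono ((q.fst.commShiftIso n).hom.app Y), zero_comp]
  apply (shiftFunctor S' (-n)).map_injective
  rw [Functor.map_zero, ← cancel_mono ((shiftFunctorCompIsoId S' n (-n) (by omega)).hom.app (q.fst.obj Y)), zero_comp,
    ← cancel_epi ((q.fst.commShiftIso (-n)).hom.app A), comp_zero]
  exact h _ (hA.shift (-n)) _

lemma killed_of_isIso {T : Triangle S} (hT : T ∈ distTriang S) (h : IsIso (q.jst.map T.mor₁)) : Killed q T.obj₃ :=
  Triangle.isZero₃_of_isIso₁ _ (q.jst.map_distinguished T hT) h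

lemma killed_shift_obj₃ {T : Triangle S} (h : Killed q T.obj₃) : Killed q T.invRotate.obj₁ := h.shift (-1)

lemma isIso_neg {D : Type u} [Category.{v} D] [Preadditive D] {X Y : D} (f : X ⟶ Y) [IsIso f] : IsIso (-f) :=
  ⟨-inv f, by simp, by simp⟩

variable (hq : q.IsMV)
include hq

lemma isIso_jst_η (N : S) : IsIso (q.jst.map (q.adjJ.unit.app N)) := by
  haveI := hq.isIso_counitJ
  have h := q.adjJ.left_triangle_components N
  have : q.jst.map (q.adjJ.unit.app N) = inv (q.adjJ.counit.app (q.jst.obj N)) :=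
    IsIso.eq_inv_of_inv_hom_id h
  rw [this]; infer_instance

omit hq in
lemma orth_jls (P : R) : Orth q (q.jls.obj P) := by
  intro A hA h
  obtain ⟨h', rfl⟩ := (q.adjJ.homEquiv A P).surjective h
  rw [hA.eq_of_src h' 0, q.adjJ.homEquiv_unit]
  haveI : q.jls.Additive := q.adjJ.right_adjoint_additive
  simp

omit hq in
lemma killed_gst {A : S} (hA : Killed q A) : IsZero (q.jpst.obj (q.fst.obj A)) :=
  (q.gst.map_isZero hA).of_iso (q.e.app A).symm

lemma orthF_jls (P : R) : OrthF q (q.jls.obj P) := by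
  intro A hA h
  haveI := hq.isIso_bc2App P
  haveI : q.jpls.Additive := q.adjJp.right_adjoint_additive
  rw [← cancel_mono (q.bc2App P), zero_comp]
  obtain ⟨h', hh'⟩ := (q.adjJp.homEquiv _ _).surjective (h ≫ q.bc2App P)
  rw [← hh', (killed_gst hA).eq_of_src h' 0, q.adjJp.homEquiv_unit]
  simp

lemma orth_F {Y : S} (h : OrthF q Y) : Orth q (q.fls.obj (q.fst.obj Y)) := by
  intro A hA f
  obtain ⟨f', rfl⟩ := (q.adjF.homEquiv A (q.fst.obj Y)).surjective f
  rw [h A hA f', q.adjF.homEquiv_unit]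
  haveI : q.fls.Additive := q.adjF.right_adjoint_additive
  simp

/-- the unit triangle -/
lemma exists_unitTriangle (N : S) :
    ∃ (K : S) (π : q.jls.obj (q.jst.obj N) ⟶ K) (w : K ⟶ N⟦(1 : ℤ)⟧),
      Triangle.mk (q.adjJ.unit.app N) π w ∈ distTriang S ∧ Killed q K ∧ IsIso (q.adjF.unit.app K) := by
  obtain ⟨K, π, w, hT⟩ := distinguished_cocone_triangle (q.adjJ.unit.app N)
  have hK : Killed q K := killed_of_isIso hT (isIso_jst_η hq N)
  exact ⟨K, π, w, hT, hK, hq.isIso_unitF K hK⟩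

/-- on killed sources, pullback to `X'` is bijective on morphisms -/
lemma bijective_fst {A : S} (hA : Killed q A) (N : S) :
    Function.Bijective (fun g : A ⟶ N => q.fst.map g) := by
  obtain ⟨K, π, w, hT, hK, -⟩ := exists_unitTriangle hq N
  set T := (Triangle.mk (q.adjJ.unit.app N) π w).invRotate with hTdef
  have hT' : T ∈ distTriang S := inv_rot_of_distTriang _ hT
  have hK' : Killed q T.obj₁ := killed_shift_obj₃ (T := Triangle.mk (q.adjJ.unit.app N) π w) hK
  haveI := hq.isIso_unitF T.obj₁ hK'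
  constructor
  · intro g g' h
    rw [← sub_eq_zero]
    simp only at h
    obtain ⟨g₁, hg₁⟩ := T.coyoneda_exact₂ hT' (g - g') (orth_jls (q := q) _ A hA _)
    have h1 : q.fst.map g₁ ≫ q.fst.map T.mor₁ = 0 := by
      rw [← q.fst.map_comp, ← hg₁, Functor.map_sub, h, sub_self]
    have hT'' : T.invRotate ∈ distTriang S := inv_rot_of_distTriang _ hT'
    obtain ⟨u, hu⟩ := Triangle.coyoneda_exact₂ _ (q.fst.map_distinguished _ hT'') (q.fst.map g₁) h1
    have hu0 : u = 0 := (orthF_jls hq (q.jst.obj N)).shift (-1) A hA u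
    rw [hu0, zero_comp] at hu
    have h2 : g₁ ≫ q.adjF.unit.app T.obj₁ = 0 := by
      haveI : q.fls.Additive := q.adjF.right_adjoint_additive
      have := q.adjF.unit.naturality g₁
      simp only [Functor.id_map, Functor.comp_map] at this
      rw [this, hu, Functor.map_zero, comp_zero]
    rw [hg₁, show g₁ = 0 by rw [← cancel_mono (q.adjF.unit.app T.obj₁), h2, zero_comp], zero_comp]
  · intro h
    obtain ⟨h₁, hh₁⟩ := Triangle.coyoneda_exact₂ _ (q.fst.map_distinguished _ hT') h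
      (orthF_jls hq (q.jst.obj N) A hA _)
    refine ⟨(q.adjF.homEquiv A _ h₁ ≫ inv (q.adjF.unit.app T.obj₁)) ≫ T.mor₁, ?_⟩
    show q.fst.map _ = h
    rw [hh₁, q.fst.map_comp]
    congr 1
    apply (q.adjF.homEquiv _ _).injective
    rw [q.adjF.homEquiv_unit A _ (q.fst.map _)]
    have := q.adjF.unit.naturality (q.adjF.homEquiv A _ h₁ ≫ inv (q.adjF.unit.app T.obj₁))
    simp only [Functor.id_map, Functor.comp_map] at this
    rw [← this]
    simp
    rfl

/-- composition with the unit of `f` is bijective on killed sources -/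
lemma bijective_θ {A : S} (hA : Killed q A) (N : S) :
    Function.Bijective (fun g : A ⟶ N => g ≫ q.adjF.unit.app N) := by
  have : (fun g : A ⟶ N => g ≫ q.adjF.unit.app N) = (q.adjF.homEquiv A (q.fst.obj N)) ∘ (fun g => q.fst.map g) := by
    ext g
    rw [Function.comp_apply, q.adjF.homEquiv_unit]
    exact q.adjF.unit.naturality g
  rw [this]
  exact (q.adjF.homEquiv _ _).bijective.comp (bijective_fst hq hA N)

lemma isIso_jst_fls_map {Y Y' : S'} (h : Y ⟶ Y') [IsIso (q.jpst.map h)] : IsIso (q.jst.map (q.fls.map h)) := by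
  haveI := hq.isIso_bcApp Y
  haveI := hq.isIso_bcApp Y'
  have nat : q.jst.map (q.fls.map h) ≫ q.bcApp Y' = q.bcApp Y ≫ q.gls.map (q.jpst.map h) := by
    simp only [MVSq.bcApp, Category.assoc, ← Functor.map_comp]
    have h1 := q.adjG.unit.naturality (q.jst.map (q.fls.map h))
    simp only [Functor.id_map, Functor.comp_map] at h1
    rw [reassoc_of% h1, ← Functor.map_comp]
    congr 2
    have h2 := q.e.hom.naturality (q.fls.map h)
    simp only [Functor.comp_map] at h2
    rw [reassoc_of% h2, ← Functor.map_comp]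
    have h3 := q.adjF.counit.naturality h
    simp only [Functor.id_map, Functor.comp_map] at h3
    rw [h3]
  have : q.jst.map (q.fls.map h) = q.bcApp Y ≫ q.gls.map (q.jpst.map h) ≫ inv (q.bcApp Y') := by
    rw [← Category.assoc, IsIso.eq_comp_inv, nat]
  rw [this]; infer_instance

omit hq in
/-- in a triangle on a biproduct with invertible second component the first component is invertible -/
lemma isIso_fst_of_isIso_inr {D : Type u} [Category.{v} D] [Preadditive D] [HasZeroObject D] [HasShift D ℤ]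
    [∀ n : ℤ, (shiftFunctor D n).Additive] [Pretriangulated D] {T : Triangle D} (hT : T ∈ distTriang D)
    {X Y : D} (i₁ : X ⟶ T.obj₂) (i₂ : Y ⟶ T.obj₂) (p₁ : T.obj₂ ⟶ X) (p₂ : T.obj₂ ⟶ Y)
    (h₁ : i₁ ≫ p₁ = 𝟙 X) (h₂₁ : i₂ ≫ p₁ = 0) (htot : p₁ ≫ i₁ + p₂ ≫ i₂ = 𝟙 _)
    [IsIso (i₂ ≫ T.mor₂)] : IsIso (T.mor₁ ≫ p₁) := by
  have h0 : T.mor₁ ≫ T.mor₂ = 0 := comp_distTriang_mor_zero₁₂ _ hT
  obtain ⟨s, hs⟩ := T.coyoneda_exact₂ hT (i₁ - (i₁ ≫ T.mor₂) ≫ inv (i₂ ≫ T.mor₂) ≫ i₂) (by
    simp only [Preadditive.sub_comp, Category.assoc, IsIso.inv_hom_id, Category.comp_id, sub_self])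
  refine ⟨s, ?_, ?_⟩
  · haveI : Mono T.mor₁ := by
      rw [Preadditive.mono_iff_cancel_zero]
      intro Z g hg
      have h3 : T.mor₃ = 0 := by
        haveI : Epi T.mor₂ := epi_of_epi i₂ T.mor₂
        rw [← cancel_epi T.mor₂, comp_zero]
        exact comp_distTriang_mor_zero₂₃ _ hT
      haveI := (T.mor₃_eq_zero_iff_mono₁ hT).1 h3
      rw [← cancel_mono T.mor₁, hg, zero_comp]
    rw [← cancel_mono T.mor₁, Category.assoc, Category.id_comp, ← hs]
    have : T.mor₁ ≫ p₂ = -((T.mor₁ ≫ p₁ ≫ i₁ ≫ T.mor₂) ≫ inv (i₂ ≫ T.mor₂)) := by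
      rw [eq_neg_iff_add_eq_zero]
      rw [← cancel_mono (i₂ ≫ T.mor₂), zero_comp, Preadditive.add_comp, Category.assoc (T.mor₁ ≫ p₁ ≫ i₁ ≫ T.mor₂),
        IsIso.inv_hom_id, Category.comp_id]
      simp only [Category.assoc]
      rw [← Preadditive.comp_add, ← Category.assoc p₂, ← Category.assoc p₁, ← Preadditive.add_comp, add_comm,
        htot, Category.id_comp, h0]
    conv_rhs => rw [← Category.comp_id T.mor₁, ← htot, Preadditive.comp_add, ← Category.assoc T.mor₁ p₂, this]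
    simp [Preadditive.comp_sub, sub_eq_add_neg]
  · have := congrArg (· ≫ p₁) hs
    simp only [Preadditive.sub_comp, Category.assoc, h₁, h₂₁, comp_zero, sub_zero] at this
    rw [Category.assoc] at *
    exact this.symm

variable [IsTriangulated S]

/-- Mayer–Vietoris triangle -/
lemma exists_mv (N : S) :
    ∃ d : q.fls.obj (q.fst.obj (q.jls.obj (q.jst.obj N))) ⟶ N⟦(1 : ℤ)⟧,
      Triangle.mk (biprod.lift (q.adjJ.unit.app N) (q.adjF.unit.app N))
        (biprod.desc (q.adjF.unit.app (q.jls.obj (q.jst.obj N)))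
          (-(q.fls.map (q.fst.map (q.adjJ.unit.app N))))) d ∈ distTriang S := by
  haveI : q.fls.Additive := q.adjF.right_adjoint_additive
  set η := q.adjJ.unit.app N
  set θ := q.adjF.unit.app N
  set b := biprod.desc (q.adjF.unit.app (q.jls.obj (q.jst.obj N))) (-(q.fls.map (q.fst.map η)))
  obtain ⟨N', a', d', hT⟩ := distinguished_cocone_triangle₁ b
  have hb : biprod.lift η θ ≫ b = 0 := by
    have := q.adjF.unit.naturality η
    simp only [Functor.id_map, Functor.comp_map] at this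
    simp [b, θ, this]
  obtain ⟨φ, hφ⟩ := Triangle.coyoneda_exact₂ _ hT (biprod.lift η θ) hb
  change N ⟶ N' at φ
  change biprod.lift η θ = φ ≫ a' at hφ
  have hfst : φ ≫ a' ≫ biprod.fst = η := (Category.assoc _ _ _).symm.trans ((congrArg (· ≫ biprod.fst) hφ.symm).trans (biprod.lift_fst _ _))
  have hsnd : φ ≫ a' ≫ biprod.snd = θ := (Category.assoc _ _ _).symm.trans ((congrArg (· ≫ biprod.snd) hφ.symm).trans (biprod.lift_snd _ _))
  haveI := isIso_jst_η hq N
  haveI hjφ : IsIso (q.jst.map φ) := by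
    haveI : IsIso (q.jst.map (q.fls.map (q.fst.map η))) := by
      haveI : IsIso (q.jpst.map (q.fst.map η)) :=
        (NatIso.isIso_map_iff q.e η).1 (inferInstanceAs (IsIso (q.gst.map (q.jst.map η))))
      exact isIso_jst_fls_map hq _
    haveI : IsIso (q.jst.map (biprod.inr : _ ⟶ q.jls.obj (q.jst.obj N) ⊞ q.fls.obj (q.fst.obj N)) ≫ q.jst.map b) := by
      rw [← Functor.map_comp, biprod.inr_desc, Functor.map_neg]
      exact isIso_neg _
    haveI : IsIso (q.jst.map biprod.inr ≫ (q.jst.mapTriangle.obj (Triangle.mk a' b d')).mor₂) := by assumption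
    haveI := isIso_fst_of_isIso_inr (q.jst.map_distinguished _ hT) (q.jst.map biprod.inl) (q.jst.map biprod.inr)
      (q.jst.map biprod.fst) (q.jst.map biprod.snd) (by rw [← Functor.map_comp, biprod.inl_fst, CategoryTheory.Functor.map_id])
      (by rw [← Functor.map_comp, biprod.inr_fst, Functor.map_zero])
      (by
        show q.jst.map _ ≫ q.jst.map _ + q.jst.map _ ≫ q.jst.map _ = _
        rw [← Functor.map_comp, ← Functor.map_comp, ← Functor.map_add, biprod.total]
        exact q.jst.map_id _)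
    haveI : IsIso (q.jst.map φ ≫ q.jst.map a' ≫ q.jst.map biprod.fst) := by
      rw [← Functor.map_comp, ← Functor.map_comp, hfst]; infer_instance
    haveI : IsIso (q.jst.map a' ≫ q.jst.map biprod.fst) := by assumption
    exact IsIso.of_isIso_comp_right (q.jst.map φ) (q.jst.map a' ≫ q.jst.map biprod.fst)
  obtain ⟨C, π, w, hC⟩ := distinguished_cocone_triangle φ
  have hCk : Killed q C := killed_of_isIso hC hjφ
  have hor : Orth q (q.fls.obj (q.fst.obj (q.jls.obj (q.jst.obj N)))) := orth_F hq (orthF_jls hq _)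
  have inj : ∀ (A : S), Killed q A → ∀ g : A ⟶ N, g ≫ φ = 0 → g = 0 := fun A hA g hg => by
    apply (bijective_θ hq hA N).1
    show g ≫ θ = 0 ≫ θ
    rw [zero_comp, ← hsnd, reassoc_of% hg, zero_comp]
  have surj : ∀ (A : S), Killed q A → ∀ g : A ⟶ N', ∃ g₀ : A ⟶ N, g₀ ≫ φ = g := fun A hA g => by
    obtain ⟨g₀, hg₀⟩ := (bijective_θ hq hA N).2 (g ≫ a' ≫ biprod.snd)
    refine ⟨g₀, ?_⟩
    obtain ⟨e, he⟩ := Triangle.coyoneda_exact₂ _ (inv_rot_of_distTriang _ hT) (g₀ ≫ φ - g) (by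
      show (g₀ ≫ φ - g) ≫ a' = 0
      apply biprod.hom_ext
      · exact (orth_jls (q := q) _ A hA _).trans zero_comp.symm
      · simp only [Preadditive.sub_comp, Category.assoc, hsnd, zero_comp]
        exact sub_eq_zero.2 hg₀)
    have he0 : e = 0 := hor.shift (-1) A hA e
    rw [he0, zero_comp] at he
    exact sub_eq_zero.1 he
  have hw : w = 0 := by
    apply (shiftFunctor S (-1 : ℤ)).map_injective
    rw [Functor.map_zero, ← cancel_mono ((shiftFunctorCompIsoId S (1 : ℤ) (-1) (by omega)).hom.app N), zero_comp]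
    refine inj _ (hCk.shift (-1)) _ ?_
    have hnat := (shiftFunctorCompIsoId S (1 : ℤ) (-1) (by omega)).hom.naturality φ
    simp only [Functor.comp_map, Functor.id_map] at hnat
    have h31 : w ≫ (shiftFunctor S (1 : ℤ)).map φ = 0 := comp_distTriang_mor_zero₃₁ _ hC
    simp only [Category.assoc]
    rw [← hnat, ← Category.assoc, ← Functor.map_comp, h31, Functor.map_zero, zero_comp]
  obtain ⟨s, hs⟩ := Triangle.coyoneda_exact₃ _ hC (𝟙 C) (by
    show 𝟙 C ≫ w = 0
    rw [hw, comp_zero])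
  obtain ⟨s₀, rfl⟩ := surj C hCk s
  have h12 : φ ≫ π = 0 := comp_distTriang_mor_zero₁₂ _ hC
  have hz : IsZero C := (IsZero.iff_id_eq_zero C).2 (by
    refine hs.trans ?_
    show (s₀ ≫ φ) ≫ π = 0
    rw [Category.assoc, h12, comp_zero])
  haveI : IsIso φ := (Triangle.isZero₃_iff_isIso₁ _ hC).1 hz
  refine ⟨d' ≫ (shiftFunctor S (1 : ℤ)).map (inv φ), isomorphic_distinguished _ hT _ ?_⟩
  exact Triangle.isoMk _ _ (asIso φ) (Iso.refl _) (Iso.refl _) (by simp [← hφ]) (by simp [b]) (by simp [← Functor.map_comp])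

/-- the connecting map of a Mayer–Vietoris triangle is determined by the unit triangle -/
lemma conn_eq (N : S) {K : S} {π : q.jls.obj (q.jst.obj N) ⟶ K} {w : K ⟶ N⟦(1 : ℤ)⟧}
    (hT : Triangle.mk (q.adjJ.unit.app N) π w ∈ distTriang S) [IsIso (q.adjF.unit.app K)]
    (d : q.fls.obj (q.fst.obj (q.jls.obj (q.jst.obj N))) ⟶ N⟦(1 : ℤ)⟧)
    (hd : Triangle.mk (biprod.lift (q.adjJ.unit.app N) (q.adjF.unit.app N))
        (biprod.desc (q.adjF.unit.app (q.jls.obj (q.jst.obj N)))
          (-(q.fls.map (q.fst.map (q.adjJ.unit.app N))))) d ∈ distTriang S) :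
    d = q.fls.map (q.fst.map π) ≫ inv (q.adjF.unit.app K) ≫ w := by
  letI := q.adjF.rightAdjointCommShift ℤ
  haveI : q.adjF.CommShift ℤ := q.adjF.commShift_of_leftAdjoint ℤ
  haveI : q.fls.IsTriangulated := q.adjF.isTriangulated_rightAdjoint
  haveI : q.fls.Additive := q.adjF.right_adjoint_additive
  obtain ⟨c, hc₂, hc₃⟩ := complete_distinguished_triangle_morphism _ _ hd hT (𝟙 N) biprod.fst
    ((biprod.lift_fst _ _).trans (Category.id_comp _).symm)
  obtain ⟨c, rfl⟩ : ∃ c' : q.fls.obj (q.fst.obj (q.jls.obj (q.jst.obj N))) ⟶ K, c' = c := ⟨c, rfl⟩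
  change biprod.desc _ _ ≫ c = biprod.fst ≫ π at hc₂
  change d ≫ (shiftFunctor S (1 : ℤ)).map (𝟙 N) = c ≫ w at hc₃
  rw [CategoryTheory.Functor.map_id, Category.comp_id] at hc₃
  have h1 : q.adjF.unit.app (q.jls.obj (q.jst.obj N)) ≫ c = π := by
    have := congrArg (biprod.inl ≫ ·) hc₂
    simpa using this
  have h2 : q.fls.map (q.fst.map (q.adjJ.unit.app N)) ≫ c = 0 := by
    have := congrArg (biprod.inr ≫ ·) hc₂
    simpa using this
  have hnat : ∀ {X Y : S} (f : X ⟶ Y), f ≫ q.adjF.unit.app Y = q.adjF.unit.app X ≫ q.fls.map (q.fst.map f) :=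
    fun f => q.adjF.unit.naturality f
  obtain ⟨c₀, hc₀⟩ : ∃ c₀ : q.fls.obj (q.fst.obj (q.jls.obj (q.jst.obj N))) ⟶ K,
      c₀ = q.fls.map (q.fst.map π) ≫ inv (q.adjF.unit.app K) := ⟨_, rfl⟩
  have h12 : q.adjJ.unit.app N ≫ π = 0 := comp_distTriang_mor_zero₁₂ _ hT
  have h23 : π ≫ w = 0 := comp_distTriang_mor_zero₂₃ _ hT
  have h1' : q.adjF.unit.app (q.jls.obj (q.jst.obj N)) ≫ c₀ = π := by
    rw [hc₀, ← Category.assoc, ← hnat, Category.assoc, IsIso.hom_inv_id, Category.comp_id]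
  have h2' : q.fls.map (q.fst.map (q.adjJ.unit.app N)) ≫ c₀ = 0 := by
    rw [hc₀, ← Category.assoc, ← Functor.map_comp, ← Functor.map_comp, h12, Functor.map_zero, Functor.map_zero, zero_comp]
  obtain ⟨v, hv⟩ := Triangle.yoneda_exact₂ _ ((q.fst ⋙ q.fls).map_distinguished _ hT) (c - c₀) (by
    show q.fls.map (q.fst.map (q.adjJ.unit.app N)) ≫ (c - c₀) = 0
    rw [Preadditive.comp_sub, h2, h2', sub_self])
  change c - c₀ = q.fls.map (q.fst.map π) ≫ v at hv
  have h3 : π ≫ q.adjF.unit.app K ≫ v = 0 := by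
    rw [reassoc_of% (hnat π), ← hv, Preadditive.comp_sub, h1, h1', sub_self]
  obtain ⟨x, hx⟩ := Triangle.yoneda_exact₃ _ hT (q.adjF.unit.app K ≫ v) h3
  change q.adjF.unit.app K ≫ v = w ≫ x at hx
  have hcc : c = c₀ := by
    rw [← sub_eq_zero, ← cancel_mono (q.adjF.unit.app K), zero_comp, hv,
      show v = inv (q.adjF.unit.app K) ≫ w ≫ x by rw [← hx, IsIso.inv_hom_id_assoc]]
    simp only [Category.assoc]
    have := hnat (w ≫ x)
    rw [Category.assoc] at this
    rw [this, IsIso.inv_hom_id_assoc, ← Functor.map_comp, ← Functor.map_comp, reassoc_of% h23]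
    simp
  rw [hc₃, hcc, hc₀, Category.assoc]

lemma existsUnique_mv (N : S) :
    ∃! d : q.fls.obj (q.fst.obj (q.jls.obj (q.jst.obj N))) ⟶ N⟦(1 : ℤ)⟧,
      Triangle.mk (biprod.lift (q.adjJ.unit.app N) (q.adjF.unit.app N))
        (biprod.desc (q.adjF.unit.app (q.jls.obj (q.jst.obj N)))
          (-(q.fls.map (q.fst.map (q.adjJ.unit.app N))))) d ∈ distTriang S := by
  obtain ⟨d, hd⟩ := exists_mv hq N
  obtain ⟨K, π, w, hT, -, hi⟩ := exists_unitTriangle hq N
  exact ⟨d, hd, fun d' hd' => (conn_eq hq N hT d' hd').trans (conn_eq hq N hT d hd).symm⟩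

lemma mv_natural (N₁ N₂ : S) (φ : N₁ ⟶ N₂)
    (d₁ : q.fls.obj (q.fst.obj (q.jls.obj (q.jst.obj N₁))) ⟶ N₁⟦(1 : ℤ)⟧)
    (d₂ : q.fls.obj (q.fst.obj (q.jls.obj (q.jst.obj N₂))) ⟶ N₂⟦(1 : ℤ)⟧)
    (h₁ : Triangle.mk (biprod.lift (q.adjJ.unit.app N₁) (q.adjF.unit.app N₁))
        (biprod.desc (q.adjF.unit.app (q.jls.obj (q.jst.obj N₁)))
          (-(q.fls.map (q.fst.map (q.adjJ.unit.app N₁))))) d₁ ∈ distTriang S)
    (h₂ : Triangle.mk (biprod.lift (q.adjJ.unit.app N₂) (q.adjF.unit.app N₂))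
        (biprod.desc (q.adjF.unit.app (q.jls.obj (q.jst.obj N₂)))
          (-(q.fls.map (q.fst.map (q.adjJ.unit.app N₂))))) d₂ ∈ distTriang S) :
    d₁ ≫ (shiftFunctor S (1 : ℤ)).map φ = q.fls.map (q.fst.map (q.jls.map (q.jst.map φ))) ≫ d₂ := by
  obtain ⟨K₁, π₁, w₁, hT₁, -, hi₁⟩ := exists_unitTriangle hq N₁
  obtain ⟨K₂, π₂, w₂, hT₂, -, hi₂⟩ := exists_unitTriangle hq N₂
  obtain ⟨ψ, hψ₂, hψ₃⟩ := complete_distinguished_triangle_morphism _ _ hT₁ hT₂ φ (q.jls.map (q.jst.map φ))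
    (q.adjJ.unit.naturality φ).symm
  change π₁ ≫ ψ = q.jls.map (q.jst.map φ) ≫ π₂ at hψ₂
  change w₁ ≫ (shiftFunctor S (1 : ℤ)).map φ = ψ ≫ w₂ at hψ₃
  have hn : ψ ≫ q.adjF.unit.app K₂ = q.adjF.unit.app K₁ ≫ q.fls.map (q.fst.map ψ) := q.adjF.unit.naturality ψ
  have hn' : inv (q.adjF.unit.app K₁) ≫ ψ = q.fls.map (q.fst.map ψ) ≫ inv (q.adjF.unit.app K₂) := by
    rw [IsIso.eq_comp_inv, Category.assoc, hn, IsIso.inv_hom_id_assoc]
  rw [conn_eq hq N₁ hT₁ d₁ h₁, conn_eq hq N₂ hT₂ d₂ h₂]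
  simp only [Category.assoc, hψ₃, reassoc_of% hn']
  rw [← Functor.map_comp_assoc, ← Functor.map_comp_assoc, ← Functor.map_comp, ← Functor.map_comp, hψ₂]

omit hq [IsTriangulated S] in
lemma isIso_of_killed_test {M N : S'} (v : M ⟶ N) (hv : IsIso (q.jpst.map v))
    (inj : ∀ A : S', IsZero (q.jpst.obj A) → ∀ g : A ⟶ M, g ≫ v = 0 → g = 0)
    (surj : ∀ A : S', IsZero (q.jpst.obj A) → ∀ g : A ⟶ N, ∃ g₀ : A ⟶ M, g₀ ≫ v = g) : IsIso v := by
  obtain ⟨C, π, w, hC⟩ := distinguished_cocone_triangle v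
  have hCk : IsZero (q.jpst.obj C) := Triangle.isZero₃_of_isIso₁ _ (q.jpst.map_distinguished _ hC) hv
  have hw : w = 0 := by
    apply (shiftFunctor S' (-1 : ℤ)).map_injective
    rw [Functor.map_zero, ← cancel_mono ((shiftFunctorCompIsoId S' (1 : ℤ) (-1) (by omega)).hom.app M), zero_comp]
    refine inj _ (((shiftFunctor R' (-1 : ℤ)).map_isZero hCk).of_iso ((q.jpst.commShiftIso (-1 : ℤ)).app C)) _ ?_
    have hnat := (shiftFunctorCompIsoId S' (1 : ℤ) (-1) (by omega)).hom.naturality v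
    simp only [Functor.comp_map, Functor.id_map] at hnat
    have h31 : w ≫ (shiftFunctor S' (1 : ℤ)).map v = 0 := comp_distTriang_mor_zero₃₁ _ hC
    simp only [Category.assoc]
    rw [← hnat, ← Category.assoc, ← Functor.map_comp, h31, Functor.map_zero, zero_comp]
  obtain ⟨s, hs⟩ := Triangle.coyoneda_exact₃ _ hC (𝟙 C) (by
    show 𝟙 C ≫ w = 0
    rw [hw, comp_zero])
  obtain ⟨s₀, rfl⟩ := surj C hCk s
  have h12 : v ≫ π = 0 := comp_distTriang_mor_zero₁₂ _ hC
  exact (Triangle.isZero₃_iff_isIso₁ _ hC).1 ((IsZero.iff_id_eq_zero C).2 (by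
    refine hs.trans ?_
    show (s₀ ≫ v) ≫ π = 0
    rw [Category.assoc, h12, comp_zero]))

omit [IsTriangulated S] in
/-- glueing -/
lemma glueing (NU : R) (N' : S') (δ : q.jpst.obj N' ≅ q.gst.obj NU) (N : S)
    (a : N ⟶ q.jls.obj NU ⊞ q.fls.obj N')
    (d : q.fls.obj (q.jpls.obj (q.gst.obj NU)) ⟶ N⟦(1 : ℤ)⟧)
    (hT : Triangle.mk a
      (biprod.desc (q.adjF.unit.app (q.jls.obj NU) ≫ q.fls.map (q.bc2App NU))
        (-(q.fls.map (q.adjJp.unit.app N' ≫ q.jpls.map δ.hom)))) d ∈ distTriang S) :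
    IsIso ((q.adjJ.homEquiv N NU).symm (a ≫ biprod.fst)) ∧
      IsIso ((q.adjF.homEquiv N N').symm (a ≫ biprod.snd)) := by
  haveI : q.fls.Additive := q.adjF.right_adjoint_additive
  haveI : q.jpls.Additive := q.adjJp.right_adjoint_additive
  haveI := hq.isIso_counitJ
  haveI := hq.isIso_counitJp
  set m := q.adjJp.unit.app N' ≫ q.jpls.map δ.hom with hm
  haveI hjm : IsIso (q.jpst.map m) := by
    haveI : IsIso (q.jpst.map (q.adjJp.unit.app N')) := by
      rw [IsIso.eq_inv_of_inv_hom_id (q.adjJp.left_triangle_components N')]; infer_instance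
    rw [hm, Functor.map_comp]; infer_instance
  haveI := isIso_jst_fls_map hq m
  have hu : IsIso (q.jst.map (a ≫ biprod.fst)) := by
    haveI : IsIso (q.jst.map (biprod.inr : _ ⟶ q.jls.obj NU ⊞ q.fls.obj N') ≫ q.jst.map (biprod.desc
        (q.adjF.unit.app (q.jls.obj NU) ≫ q.fls.map (q.bc2App NU)) (-(q.fls.map m)))) := by
      rw [← Functor.map_comp, biprod.inr_desc, Functor.map_neg]; exact isIso_neg _
    haveI : IsIso (q.jst.map biprod.inr ≫ (q.jst.mapTriangle.obj (Triangle.mk a (biprod.desc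
        (q.adjF.unit.app (q.jls.obj NU) ≫ q.fls.map (q.bc2App NU)) (-(q.fls.map m))) d)).mor₂) := by assumption
    rw [Functor.map_comp]
    exact isIso_fst_of_isIso_inr (q.jst.map_distinguished _ hT) (q.jst.map biprod.inl) (q.jst.map biprod.inr)
      (q.jst.map biprod.fst) (q.jst.map biprod.snd) (by rw [← Functor.map_comp, biprod.inl_fst, CategoryTheory.Functor.map_id])
      (by rw [← Functor.map_comp, biprod.inr_fst, Functor.map_zero])
      (by
        show q.jst.map _ ≫ q.jst.map _ + q.jst.map _ ≫ q.jst.map _ = _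
        rw [← Functor.map_comp, ← Functor.map_comp, ← Functor.map_add, biprod.total]
        exact q.jst.map_id _)
  set u := (q.adjJ.homEquiv N NU).symm (a ≫ biprod.fst) with hudef
  set v := (q.adjF.homEquiv N N').symm (a ≫ biprod.snd) with hvdef
  haveI hu' : IsIso u := by
    rw [hudef, q.adjJ.homEquiv_counit]; infer_instance
  refine ⟨hu', ?_⟩
  have ha1 : a ≫ biprod.fst = q.adjJ.unit.app N ≫ q.jls.map u := by
    refine ((q.adjJ.homEquiv N NU).apply_symm_apply (a ≫ biprod.fst)).symm.trans ?_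
    exact q.adjJ.homEquiv_unit N NU u
  have ha2 : a ≫ biprod.snd = q.adjF.homEquiv N N' v := by rw [hvdef, Equiv.apply_symm_apply]
  have hab : (a ≫ biprod.fst) ≫ q.adjF.unit.app (q.jls.obj NU) ≫ q.fls.map (q.bc2App NU) =
      (a ≫ biprod.snd) ≫ q.fls.map m := by
    have h := comp_distTriang_mor_zero₁₂ _ hT
    change a ≫ biprod.desc _ _ = 0 at h
    rw [biprod.desc_eq, Preadditive.comp_add, Preadditive.comp_neg, Preadditive.comp_neg] at h
    rw [Category.assoc, Category.assoc]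
    exact add_neg_eq_zero.1 h
  have hkey : q.fst.map (a ≫ biprod.fst) ≫ q.bc2App NU = v ≫ m := by
    apply (q.adjF.homEquiv N _).injective
    rw [q.adjF.homEquiv_naturality_right v m, ← ha2, ← hab, q.adjF.homEquiv_unit, Functor.map_comp]
    have := q.adjF.unit.naturality (a ≫ biprod.fst)
    simp only [Functor.id_map, Functor.comp_map] at this
    rw [← Category.assoc (q.adjF.unit.app N), ← this, Category.assoc]
  have hbc : q.fst.map (a ≫ biprod.fst) ≫ q.bc2App NU =
      q.adjJp.homEquiv _ _ (q.e.inv.app N ≫ q.gst.map u) := by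
    rw [q.adjJp.homEquiv_unit, MVSq.bc2App]
    have h1 := q.adjJp.unit.naturality (q.fst.map (a ≫ biprod.fst))
    simp only [Functor.id_map, Functor.comp_map] at h1
    rw [reassoc_of% h1, ← Functor.map_comp, ← Functor.map_comp]
    congr 2
    have h2 := q.e.inv.naturality (a ≫ biprod.fst)
    simp only [Functor.comp_map] at h2
    rw [reassoc_of% h2, ← Functor.map_comp, hudef, q.adjJ.homEquiv_counit]
  have hjv : IsIso (q.jpst.map v) := by
    have h1 : q.jpst.map v ≫ δ.hom = q.e.inv.app N ≫ q.gst.map u := by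
      apply (q.adjJp.homEquiv _ _).injective
      rw [← hbc, hkey, q.adjJp.homEquiv_unit, hm, Functor.map_comp]
      have h2 := q.adjJp.unit.naturality v
      simp only [Functor.id_map, Functor.comp_map] at h2
      rw [← reassoc_of% h2]
    haveI : IsIso (q.jpst.map v ≫ δ.hom) := by rw [h1]; infer_instance
    exact IsIso.of_isIso_comp_right (q.jpst.map v) δ.hom
  have hkill : ∀ A : S', IsZero (q.jpst.obj A) → Killed q (q.fls.obj A) := fun A hA => by
    haveI := hq.isIso_bcApp A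
    haveI : q.gls.Additive := q.adjG.right_adjoint_additive
    exact (q.gls.map_isZero hA).of_iso (asIso (q.bcApp A))
  have hor : Orth q (q.fls.obj (q.jpls.obj (q.gst.obj NU))) := fun B hB h => by
    obtain ⟨h', rfl⟩ := (q.adjF.homEquiv _ _).surjective h
    obtain ⟨h'', rfl⟩ := (q.adjJp.homEquiv _ _).surjective h'
    rw [(killed_gst hB).eq_of_src h'' 0, q.adjJp.homEquiv_unit, q.adjF.homEquiv_unit]
    simp
  have hv2 : ∀ {A : S} (g : A ⟶ N), q.adjF.homEquiv A N' (q.fst.map g ≫ v) = g ≫ a ≫ biprod.snd := fun g => by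
    rw [ha2, q.adjF.homEquiv_naturality_left]
  refine isIso_of_killed_test v hjv (fun A hA g hg => ?_) (fun A hA g => ?_)
  · haveI := hq.isIso_counitF A hA
    rw [← cancel_epi (q.adjF.counit.app A), comp_zero]
    obtain ⟨g₀, hg₀⟩ := (bijective_fst hq (hkill A hA) N).2 (q.adjF.counit.app A ≫ g)
    simp only at hg₀
    have hg₀v : g₀ ≫ a ≫ biprod.snd = 0 := by
      rw [← hv2, hg₀, Category.assoc, hg, comp_zero, q.adjF.homEquiv_unit, Functor.map_zero, comp_zero]
    obtain ⟨e, he⟩ := Triangle.coyoneda_exact₂ _ (inv_rot_of_distTriang _ hT) g₀ (by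
      show g₀ ≫ a = 0
      apply biprod.hom_ext
      · exact (orth_jls (q := q) _ _ (hkill A hA) _).trans zero_comp.symm
      · rw [Category.assoc, hg₀v, zero_comp])
    have he0 : e = 0 := hor.shift (-1) _ (hkill A hA) e
    rw [he0, zero_comp] at he
    rw [← hg₀, he, Functor.map_zero]
  · haveI := hq.isIso_counitF A hA
    have hgoal : ∃ g₀ : q.fls.obj A ⟶ N, g₀ ≫ a ≫ biprod.snd =
        q.adjF.homEquiv (q.fls.obj A) N' (q.adjF.counit.app A ≫ g) := by
      obtain ⟨g₁, hg₁⟩ := Triangle.coyoneda_exact₂ _ hT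
        (biprod.lift 0 (q.adjF.homEquiv (q.fls.obj A) N' (q.adjF.counit.app A ≫ g))) (hor _ (hkill A hA) _)
      change biprod.lift _ _ = g₁ ≫ a at hg₁
      exact ⟨g₁, by rw [← Category.assoc, ← hg₁, biprod.lift_snd]⟩
    obtain ⟨g₀, hg₀⟩ := hgoal
    rw [← hv2] at hg₀
    refine ⟨inv (q.adjF.counit.app A) ≫ q.fst.map g₀, ?_⟩
    rw [Category.assoc, (q.adjF.homEquiv _ _).injective hg₀, IsIso.inv_hom_id_assoc]

end Groth.Agent.H7.MV
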