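import Groth.Agent.H7.MV.Basic

/-! Compactness is local in a Mayer–Vietoris square. -/

set_option backward.isDefEq.respectTransparency false
set_option linter.unusedSectionVars false

universe v u

open CategoryTheory CategoryTheory.Limits CategoryTheory.Pretriangulated ZeroObject
open W4c3perfectstacks Groth.Agent.CompGen.Coprod

namespace Groth.Agent.H7.MV

section

variable {D E : Type u} [Category.{v} D] [Preadditive D] [Category.{v} E] [Preadditive E]

/-- a map out of a compact object into the image of a coproduct is supported on finitely many summands -/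
lemma exists_map_fix (G : D ⥤ E) [G.Additive] {ι : Type v} [HasCoproducts.{v} E] (X : ι → D) [HasCoproduct X]
    [PreservesColimit (Discrete.functor X) G] {Z : E} (hZ : CohDer.IsCompactObject Z) (ψ : Z ⟶ G.obj (∐ X)) :
    ∃ s : Finset ι, ψ ≫ G.map (eS X s) = ψ := by
  classical
  let c := PreservesCoproduct.iso G X
  obtain ⟨s, hs⟩ := (isCompact_iff Z).1 hZ ι _ (ψ ≫ c.hom)
  refine ⟨s, ?_⟩
  have hc : ∀ k, Sigma.ι (fun j => G.obj (X j)) k ≫ c.inv = G.map (Sigma.ι X k) := fun k => by simp [c]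
  have h : c.inv ≫ G.map (eS X s) = eS (fun j => G.obj (X j)) s ≫ c.inv := by
    refine Sigma.hom_ext _ _ fun k => ?_
    rw [reassoc_of% hc, ← Functor.map_comp, ι_eS, ← Category.assoc, ι_eS]
    by_cases hk : k ∈ s
    · rw [if_pos hk, if_pos hk, hc]
    · rw [if_neg hk, if_neg hk, zero_comp, Functor.map_zero]
  rw [← Category.comp_id ψ, ← c.hom_inv_id, Category.assoc, Category.assoc, h, ← Category.assoc ψ c.hom, ← Category.assoc,
    hs, Category.assoc]

end

variable {S S' R R' : Type u} [Category.{v} S] [Category.{v} S'] [Category.{v} R] [Category.{v} R']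
    [Preadditive S] [Preadditive S'] [Preadditive R] [Preadditive R']
    [HasZeroObject S] [HasZeroObject S'] [HasZeroObject R] [HasZeroObject R']
    [HasShift S ℤ] [HasShift S' ℤ] [HasShift R ℤ] [HasShift R' ℤ]
    [∀ n : ℤ, (shiftFunctor S n).Additive] [∀ n : ℤ, (shiftFunctor S' n).Additive]
    [∀ n : ℤ, (shiftFunctor R n).Additive] [∀ n : ℤ, (shiftFunctor R' n).Additive]
    [Pretriangulated S] [Pretriangulated S'] [Pretriangulated R] [Pretriangulated R'] [IsTriangulated S]
    (q : MVSq S S' R R')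
    [q.jst.CommShift ℤ] [q.fst.CommShift ℤ] [q.jpst.CommShift ℤ] [q.gst.CommShift ℤ]
    [q.jst.IsTriangulated] [q.fst.IsTriangulated] [q.jpst.IsTriangulated] [q.gst.IsTriangulated]

lemma isCompact_of_pullbacks (hq : q.IsMV)
    [HasCoproducts.{v} S] [HasCoproducts.{v} S'] [HasCoproducts.{v} R] [HasCoproducts.{v} R']
    (N : S) (hU : CohDer.IsCompactObject (q.jst.obj N)) (hX' : CohDer.IsCompactObject (q.fst.obj N))
    (hU' : CohDer.IsCompactObject (q.gst.obj (q.jst.obj N))) :
    CohDer.IsCompactObject N := by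
  classical
  refine (isCompact_iff N).2 fun ι X φ => ?_
  haveI : q.jst.IsLeftAdjoint := ⟨_, ⟨q.adjJ⟩⟩
  haveI : q.fst.IsLeftAdjoint := ⟨_, ⟨q.adjF⟩⟩
  haveI : q.gst.IsLeftAdjoint := ⟨_, ⟨q.adjG⟩⟩
  haveI : q.jls.Additive := q.adjJ.right_adjoint_additive
  haveI : q.fls.Additive := q.adjF.right_adjoint_additive
  haveI : q.jpls.Additive := q.adjJp.right_adjoint_additive
  obtain ⟨s₁, hs₁⟩ := exists_map_fix q.jst X hU (q.jst.map φ)
  obtain ⟨s₂, hs₂⟩ := exists_map_fix q.fst X hX' (q.fst.map φ)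
  set s := s₁ ∪ s₂
  set ψ := φ - φ ≫ eS X s with hψ
  have hjψ : q.jst.map ψ = 0 := by
    rw [hψ, Functor.map_sub, Functor.map_comp, sub_eq_zero]
    conv_rhs => rw [← hs₁, Category.assoc, ← Functor.map_comp, eS_comp_of_subset X Finset.subset_union_left]
    exact hs₁.symm
  have hfψ : q.fst.map ψ = 0 := by
    rw [hψ, Functor.map_sub, Functor.map_comp, sub_eq_zero]
    conv_rhs => rw [← hs₂, Category.assoc, ← Functor.map_comp, eS_comp_of_subset X Finset.subset_union_right]
    exact hs₂.symm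
  obtain ⟨K, π, w, hT, hK, -⟩ := exists_unitTriangle hq (∐ X)
  set T := (Triangle.mk (q.adjJ.unit.app (∐ X)) π w).invRotate
  have hT' : T ∈ distTriang S := inv_rot_of_distTriang _ hT
  haveI := hq.isIso_unitF T.obj₁ (killed_shift_obj₃ (T := Triangle.mk (q.adjJ.unit.app (∐ X)) π w) hK)
  have hη : ψ ≫ q.adjJ.unit.app (∐ X) = 0 := by
    have := q.adjJ.unit.naturality ψ
    simp only [Functor.id_map, Functor.comp_map] at this
    exact this.trans (by rw [show q.jst.map ψ = 0 from hjψ, Functor.map_zero, comp_zero])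
  obtain ⟨ψ₁, hψ₁⟩ := T.coyoneda_exact₂ hT' ψ hη
  have hT'' : T.invRotate ∈ distTriang S := inv_rot_of_distTriang _ hT'
  obtain ⟨u, hu⟩ := Triangle.coyoneda_exact₂ _ (q.fst.map_distinguished _ hT'') (q.fst.map ψ₁) (by
    show q.fst.map ψ₁ ≫ q.fst.map T.mor₁ = 0
    exact (q.fst.map_comp _ _).symm.trans ((congrArg q.fst.map hψ₁.symm).trans hfψ))
  -- transport `u` to a map out of a compact object over `U'`
  let JP := q.jls.obj (q.jst.obj (∐ X))
  let u₁ : (shiftFunctor S' (1 : ℤ)).obj (q.fst.obj N) ⟶ q.fst.obj JP :=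
    (shiftFunctor S' (1 : ℤ)).map (u ≫ (q.fst.commShiftIso (-1 : ℤ)).hom.app JP) ≫
      (shiftFunctorCompIsoId S' (-1 : ℤ) 1 (by omega)).hom.app (q.fst.obj JP)
  let u₂ := (q.adjJp.homEquiv _ (q.gst.obj (q.jst.obj (∐ X)))).symm (u₁ ≫ q.bc2App (q.jst.obj (∐ X)))
  have hZ : CohDer.IsCompactObject (q.jpst.obj ((shiftFunctor S' (1 : ℤ)).obj (q.fst.obj N))) :=
    isCompact_of_iso ((q.jpst.commShiftIso (1 : ℤ)).app (q.fst.obj N))
      (isCompact_shift (isCompact_of_iso (q.e.app N).symm hU') 1)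
  obtain ⟨s₃, hs₃⟩ := exists_map_fix (q.jst ⋙ q.gst) X hZ u₂
  set e := 𝟙 (∐ X) - eS X s₃ with he
  obtain ⟨χ, hχ₁, hχ₂⟩ := complete_distinguished_triangle_morphism _ _ hT hT e (q.jls.map (q.jst.map e))
    (q.adjJ.unit.naturality e).symm
  let M : T ⟶ T := (invRotate S).map (Triangle.homMk (Triangle.mk (q.adjJ.unit.app (∐ X)) π w) (Triangle.mk (q.adjJ.unit.app (∐ X)) π w)
    e (q.jls.map (q.jst.map e)) χ (q.adjJ.unit.naturality e).symm hχ₁ hχ₂)
  let M' : T.invRotate ⟶ T.invRotate := (invRotate S).map M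
  let e' := q.jls.map (q.jst.map e)
  have hu₁ : u₁ ≫ q.fst.map e' = 0 := by
    haveI := hq.isIso_bc2App (q.jst.obj (∐ X))
    rw [← cancel_mono (q.bc2App (q.jst.obj (∐ X))), zero_comp, Category.assoc]
    have nat : q.fst.map e' ≫ q.bc2App (q.jst.obj (∐ X)) =
        q.bc2App (q.jst.obj (∐ X)) ≫ q.jpls.map (q.gst.map (q.jst.map e)) := by
      simp only [MVSq.bc2App, Category.assoc, ← Functor.map_comp]
      have h1 := q.adjJp.unit.naturality (q.fst.map e')
      simp only [Functor.id_map, Functor.comp_map] at h1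
      rw [reassoc_of% h1, ← Functor.map_comp]
      congr 2
      have h2 := q.e.inv.naturality e'
      simp only [Functor.comp_map] at h2
      rw [reassoc_of% h2, ← Functor.map_comp]
      congr 2
      exact q.adjJ.counit.naturality (q.jst.map e)
    rw [nat]
    apply (q.adjJp.homEquiv _ _).symm.injective
    rw [← Category.assoc, q.adjJp.homEquiv_naturality_right_symm]
    show u₂ ≫ (q.jst ⋙ q.gst).map e = _
    rw [he, Functor.map_sub, CategoryTheory.Functor.map_id, Preadditive.comp_sub, hs₃]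
    simp [q.adjJp.homEquiv_counit]
  have hu₀ : u ≫ q.fst.map ((shiftFunctor S (-1 : ℤ)).map e') = 0 := by
    have h1 := (shiftFunctorCompIsoId S' (-1 : ℤ) 1 (by omega)).hom.naturality (q.fst.map e')
    simp only [Functor.comp_map, Functor.id_map] at h1
    have h2 := (q.fst.commShiftIso (-1 : ℤ)).hom.naturality e'
    simp only [Functor.comp_map] at h2
    rw [← cancel_mono ((q.fst.commShiftIso (-1 : ℤ)).hom.app JP), zero_comp, Category.assoc, h2, ← Category.assoc]
    apply (shiftFunctor S' (1 : ℤ)).map_injective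
    rw [Functor.map_zero, Functor.map_comp, ← cancel_mono ((shiftFunctorCompIsoId S' (-1 : ℤ) 1 (by omega)).hom.app (q.fst.obj JP)),
      zero_comp, Category.assoc, h1, ← Category.assoc]
    exact hu₁
  have hM' : M'.hom₁ = (shiftFunctor S (-1 : ℤ)).map e' := rfl
  have h0 : q.fst.map (ψ₁ ≫ M.hom₁) = 0 := by
    rw [Functor.map_comp, hu]
    show (u ≫ q.fst.map T.invRotate.mor₁) ≫ q.fst.map M.hom₁ = 0
    rw [Category.assoc, ← Functor.map_comp, show T.invRotate.mor₁ ≫ M.hom₁ = M'.hom₁ ≫ T.invRotate.mor₁ from M'.comm₁,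
      hM', Functor.map_comp, reassoc_of% hu₀, zero_comp]
  have h1 : ψ₁ ≫ M.hom₁ = 0 := by
    rw [← cancel_mono (q.adjF.unit.app T.obj₁), zero_comp]
    have := q.adjF.unit.naturality (ψ₁ ≫ M.hom₁)
    simp only [Functor.id_map, Functor.comp_map] at this
    rw [this, h0, Functor.map_zero, comp_zero]
  have h2 : ψ ≫ e = 0 := by
    rw [hψ₁]
    show (ψ₁ ≫ T.mor₁) ≫ M.hom₂ = 0
    rw [Category.assoc, M.comm₁, reassoc_of% h1, zero_comp]
  refine ⟨s ∪ s₃, ?_⟩
  have h3 : φ = φ ≫ eS X s + ψ ≫ eS X s₃ := by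
    rw [he, Preadditive.comp_sub, Category.comp_id, sub_eq_zero] at h2
    rw [← h2, hψ, add_sub_cancel]
  conv_lhs => rw [h3]
  conv_rhs => rw [h3]
  rw [Preadditive.add_comp, Category.assoc, eS_comp_of_subset X Finset.subset_union_left, Category.assoc,
    eS_comp_of_subset X Finset.subset_union_right]

end Groth.Agent.H7.MV
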